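import Cfsg.Agent.Lib.Kreknin.Almost
import Cfsg.Agent.Lib.Cores.Basic
import Cfsg.Agent.Lib.PGroups.MaxAbelian
import Cfsg.Agent.Lib.PGroups.Frattini
import Mathlib.GroupTheory.Perm.ViaEmbedding
import Mathlib.Algebra.CharP.Lemmas

/-!
# Almost regular automorphisms of prime order, after Alperin

`pGroup_derived_eq_bot`: the derived length of a finite `p`-group with an automorphism of order
dividing `p` and at most `p ^ n` fixed points is bounded in terms of `p` and `n`.

The automorphism is conjugation by an element `a` of an ambient group `X`.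
-/

set_option autoImplicit false
set_option linter.style.haveILetI false

namespace Cfsg.Agent.Lib.AlmostRegular

open Subgroup
open scoped commutatorElement

theorem card_le_of_fibers {G β : Type*} [Group G] [Finite G] [Finite β] (Q : Subgroup G)
    (C : Subgroup G) (f : Q → β) (h : ∀ a b : Q, f a = f b → (b : G)⁻¹ * a ∈ C) :
    Nat.card Q ≤ Nat.card β * Nat.card C := by
  classical
  rw [← Nat.card_prod]
  haveI : Nonempty Q := ⟨1⟩
  let r : β → Q := Function.invFun f
  have hr : ∀ a : Q, f (r (f a)) = f a := fun a => Function.invFun_eq ⟨a, rfl⟩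
  refine Nat.card_le_card_of_injective
    (fun a => (f a, (⟨(r (f a) : G)⁻¹ * a, h _ _ (hr a).symm⟩ : C))) ?_
  intro a b hab
  simp only [Prod.mk.injEq, Subtype.mk.injEq] at hab
  apply Subtype.ext
  have h2 := hab.2
  rw [hab.1] at h2
  exact mul_left_cancel h2

theorem derivedSeries_eq_bot_of_card_le {H : Type*} [Group H] [Finite H] [Group.IsSolvable H]
    {k : ℕ} (hk : Nat.card H ≤ k) : derivedSeries H k = ⊥ := by
  have key : ∀ j, derivedSeries H j = ⊥ ∨ Nat.card (derivedSeries H j) + j ≤ Nat.card H := by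
    intro j
    induction j with
    | zero => right; simp [card_top]
    | succ j ih =>
      by_cases h : derivedSeries H j = ⊥
      · left; rw [derivedSeries_succ, h, commutator_bot_left]
      · right
        have h2 := ih.resolve_left h
        haveI : Nontrivial (derivedSeries H j) := (Subgroup.nontrivial_iff_ne_bot _).mpr h
        have hle : derivedSeries H (j + 1) ≤ derivedSeries H j := derivedSeries_antitone H j.le_succ
        have hlt : Nat.card (derivedSeries H (j + 1)) < Nat.card (derivedSeries H j) := by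
          refine lt_of_not_ge fun hge => ?_
          have he := eq_of_le_of_card_ge hle hge
          refine (Group.IsSolvable.commutator_lt_top_of_nontrivial (derivedSeries H j)).ne ?_
          apply map_injective (derivedSeries H j).subtype_injective
          rw [map_subtype_commutator, ← MonoidHom.range_eq_map, range_subtype, ← derivedSeries_succ,
            he]
        omega
  refine (key k).resolve_right fun h => ?_
  have : 0 < Nat.card (derivedSeries H k) := Nat.card_pos
  omega

/-- Derived length is subadditive. -/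
theorem derivedSeries_add_eq_bot {H : Type*} [Group H] (N : Subgroup H) {a b : ℕ}
    (ha : derivedSeries H a ≤ N) (hb : derivedSeries N b = ⊥) : derivedSeries H (a + b) = ⊥ := by
  have key : ∀ j, derivedSeries H (a + j) ≤ (derivedSeries N j).map N.subtype := by
    intro j
    induction j with
    | zero =>
      rw [derivedSeries_zero, ← MonoidHom.range_eq_map, range_subtype]
      exact ha
    | succ j ih =>
      rw [← add_assoc, derivedSeries_succ, derivedSeries_succ, map_commutator]
      exact commutator_mono ih ih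
  exact le_bot_iff.mp ((key b).trans (by rw [hb, Subgroup.map_bot]))

theorem derivedSeries_le_ker {H H' : Type*} [Group H] [Group H'] (f : H →* H') {a : ℕ}
    (ha : derivedSeries H' a = ⊥) : derivedSeries H a ≤ f.ker := by
  rw [← Subgroup.map_eq_bot_iff, eq_bot_iff, ← ha]
  exact map_derivedSeries_le_derivedSeries f a

/-- An additive group with an automorphism `T`, `T ^ p = 1`, exponent `p ^ e`, and at most `c`
fixed points, has order at most `c ^ (p * e)`. -/
theorem natCard_le_pow {V : Type*} [AddCommGroup V] [Finite V] {p e c : ℕ} (hp : p.Prime)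
    (T : AddMonoid.End V) (hT : T ^ p = 1) (he : ∀ v : V, p ^ e • v = 0)
    (hc : Nat.card {v : V // T v = v} ≤ c) : Nat.card V ≤ c ^ (p * e) := by
  set D : AddMonoid.End V := T - 1 with hD
  have hpe : ((p : AddMonoid.End V)) ^ e = 0 := by
    rw [← Nat.cast_pow]
    refine DFunLike.ext _ _ fun v => ?_
    rw [AddMonoid.End.natCast_apply]
    exact he v
  have hnil : D ^ (p * e) = 0 := by
    obtain ⟨r, hr⟩ := (Commute.one_right D).exists_add_pow_prime_eq hp
    rw [hD, sub_add_cancel, hT, one_pow, mul_one] at hr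
    have h1 : D ^ p = -((p : AddMonoid.End V) * (D * r)) := by
      rw [eq_neg_iff_add_eq_zero, ← mul_assoc]
      have h := hr
      rw [add_right_comm] at h
      simpa using h.symm
    rw [pow_mul, h1, neg_pow, (Nat.cast_commute p (D * r)).mul_pow, hpe, zero_mul, mul_zero]
  let K : ℕ → AddSubgroup V := fun k => AddMonoidHom.ker (D ^ k : AddMonoid.End V)
  have hK1 : ∀ v : V, D v = 0 ↔ T v = v := fun v => by
    rw [hD]
    show T v - v = 0 ↔ _
    exact sub_eq_zero
  have hK : ∀ k, Nat.card (K k) ≤ c ^ k := by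
    intro k
    induction k with
    | zero =>
      rw [pow_zero]
      have h0 : K 0 = ⊥ := by
        rw [eq_bot_iff]
        intro v hv
        have h1 : (D ^ 0 : AddMonoid.End V) v = 0 := hv
        simpa using h1
      rw [h0]
      simp
    | succ k ih =>
      let f : K (k + 1) → {v : V // T v = v} := fun v => ⟨(D ^ k) v.1, (hK1 _).mp (by
        have h : (D ^ (k + 1) : AddMonoid.End V) v.1 = 0 := v.2
        rw [pow_succ'] at h
        exact h)⟩
      haveI : Nonempty (K (k + 1)) := ⟨0⟩
      let r := Function.invFun f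
      have hrr : ∀ a, f (r (f a)) = f a := fun a => Function.invFun_eq ⟨a, rfl⟩
      refine le_trans ?_ (show Nat.card {v : V // T v = v} * Nat.card (K k) ≤ c ^ (k + 1) by
        rw [pow_succ']
        exact Nat.mul_le_mul hc ih)
      rw [← Nat.card_prod]
      refine Nat.card_le_card_of_injective (fun v => (f v, (⟨v.1 - (r (f v)).1, by
        show (D ^ k) (v.1 - (r (f v)).1) = 0
        rw [map_sub, sub_eq_zero]
        exact (congrArg Subtype.val (hrr v)).symm⟩ : K k))) ?_
      intro a b hab
      simp only [Prod.mk.injEq, Subtype.mk.injEq] at hab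
      apply Subtype.ext
      have h2 := hab.2
      rw [hab.1] at h2
      exact sub_left_inj.mp h2
  have htop : K (p * e) = ⊤ := by
    rw [eq_top_iff]
    intro v _
    show (D ^ (p * e)) v = 0
    rw [hnil]
    rfl
  calc Nat.card V = Nat.card (K (p * e)) := by rw [htop, AddSubgroup.card_top]
    _ ≤ c ^ (p * e) := hK _

variable {X : Type*} [Group X] [Finite X]

/-- `P ⊓ C(a)` has order at most `c`. -/
def FixLE (a : X) (P : Subgroup X) (c : ℕ) : Prop :=
  Nat.card (P ⊓ centralizer ({a} : Set X) : Subgroup X) ≤ c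

theorem fixLE_mono {a : X} {P Q : Subgroup X} {c : ℕ} (h : FixLE a P c) (hQ : Q ≤ P) :
    FixLE a Q c :=
  (Nat.le_of_dvd Nat.card_pos (card_dvd_of_le (inf_le_inf_right _ hQ))).trans h

theorem fixLE_quotient {a : X} {P N : Subgroup X} [N.Normal] (hN : N ≤ P) {c : ℕ}
    (h : FixLE a P c) :
    FixLE (QuotientGroup.mk' N a) (P.map (QuotientGroup.mk' N)) c := by
  set f := QuotientGroup.mk' N with hf
  set S := P ⊓ (centralizer ({f a} : Set (X ⧸ N))).comap f with hS
  have hSN : N ≤ S := le_inf hN fun y hy => by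
    rw [mem_comap, mem_centralizer_iff]
    intro z _
    rw [show f y = 1 from (QuotientGroup.eq_one_iff y).mpr hy, one_mul, mul_one]
  have hmap : P.map f ⊓ centralizer {f a} ≤ S.map f := by
    rintro _ ⟨⟨y, hy, rfl⟩, hc⟩
    exact ⟨y, ⟨hy, hc⟩, rfl⟩
  have hmem : ∀ y : S, a * (y : X) * a⁻¹ * (y : X)⁻¹ ∈ N := fun y => by
    rw [← QuotientGroup.eq_one_iff, ← QuotientGroup.mk'_apply, ← hf]
    have hc : f a * f y = f y * f a := mem_centralizer_iff.mp (mem_inf.mp y.2).2 _ rfl
    simp only [map_mul, map_inv, hc]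
    group
  have hcount : Nat.card S ≤ Nat.card N * Nat.card (P ⊓ centralizer ({a} : Set X) : Subgroup X) := by
    refine card_le_of_fibers S _ (fun y => (⟨_, hmem y⟩ : N)) ?_
    intro u v huv
    have h1 : a * (u : X) * a⁻¹ * (u : X)⁻¹ = a * (v : X) * a⁻¹ * (v : X)⁻¹ :=
      congrArg Subtype.val huv
    refine mem_inf.mpr ⟨mul_mem (inv_mem (mem_inf.mp v.2).1) (mem_inf.mp u.2).1,
      mem_centralizer_iff.mpr fun z hz => ?_⟩
    rw [Set.mem_singleton_iff.mp hz]
    calc a * ((v : X)⁻¹ * u) = a * (v : X)⁻¹ * a⁻¹ * (a * u * a⁻¹ * (u : X)⁻¹) * u * a := by group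
      _ = a * (v : X)⁻¹ * a⁻¹ * (a * v * a⁻¹ * (v : X)⁻¹) * u * a := by rw [h1]
      _ = _ := by group
  have hrel : Nat.card S = Nat.card N * Nat.card (S.map f) := by
    have h1 := Subgroup.relIndex_ker (K := S) f
    rw [hf, QuotientGroup.ker_mk'] at h1
    have h2 := Subgroup.relIndex_mul_relIndex (⊥ : Subgroup X) N S bot_le hSN
    rw [Subgroup.relIndex_bot_left, Subgroup.relIndex_bot_left, h1] at h2
    exact h2.symm
  rw [hrel] at hcount
  exact (Nat.le_of_dvd Nat.card_pos (card_dvd_of_le hmap)).trans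
    ((Nat.le_of_mul_le_mul_left hcount Nat.card_pos).trans h)

variable {p : ℕ} [hp : Fact p.Prime]

/-- Abelian invariant sections are small. -/
theorem card_abelian_le {a : X} (ha : a ^ p = 1) {A : Subgroup X} [A.Normal]
    (hA : IsMulCommutative A) {e c : ℕ} (he : ∀ x ∈ A, x ^ p ^ e = 1) (hc : FixLE a A c) :
    Nat.card A ≤ c ^ (p * e) := by
  letI : CommGroup A := { mul_comm := hA.is_comm.comm }
  let T : AddMonoid.End (Additive A) :=
    MonoidHom.toAdditive ((MulAut.conjNormal a : MulAut A).toMonoidHom)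
  have hTv : ∀ v : A, T (Additive.ofMul v) = Additive.ofMul (MulAut.conjNormal a v) := fun v => rfl
  have hTpow : ∀ (k : ℕ) (v : A),
      (T ^ k) (Additive.ofMul v) = Additive.ofMul (MulAut.conjNormal (a ^ k) v) := by
    intro k
    induction k with
    | zero => intro v; simp
    | succ k ih =>
      intro v
      rw [pow_succ', AddMonoid.End.coe_mul, Function.comp_apply, ih, hTv, pow_succ', map_mul]
      rfl
  have hT : T ^ p = 1 := by
    refine DFunLike.ext _ _ fun v => ?_
    obtain ⟨v, rfl⟩ := Additive.ofMul.surjective v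
    rw [hTpow, ha, map_one]
    rfl
  have hexp : ∀ v : Additive A, p ^ e • v = 0 := by
    intro v
    obtain ⟨v, rfl⟩ := Additive.ofMul.surjective v
    rw [← ofMul_pow, show v ^ p ^ e = 1 from Subtype.ext (by simpa using he v v.2), ofMul_one]
  refine natCard_le_pow (V := Additive A) hp.out T hT hexp (le_trans ?_ hc)
  refine Nat.card_le_card_of_injective
    (fun v => (⟨((Additive.toMul v.1 : A) : X), mem_inf.mpr ⟨(Additive.toMul v.1).2,
      mem_centralizer_iff.mpr fun z hz => ?_⟩⟩ : (A ⊓ centralizer ({a} : Set X) : Subgroup X))) ?_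
  · rw [Set.mem_singleton_iff.mp hz]
    have h : ((MulAut.conjNormal a (Additive.toMul v.1) : A) : X) = (Additive.toMul v.1 : A) :=
      congrArg (fun w : Additive A => ((Additive.toMul w : A) : X)) v.2
    rw [MulAut.conjNormal_apply] at h
    exact mul_inv_eq_iff_eq_mul.mp h
  · intro u v huv
    exact Subtype.ext (Additive.toMul.injective (Subtype.ext (congrArg Subtype.val huv :)))

/-- The bound on sections of exponent `p ^ e`. -/
def sectionBound (p c e : ℕ) : ℕ :=
  c ^ (p * e) * (c ^ (p * e)) ^ (c ^ (p * e))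

/-- Invariant sections of bounded exponent are bounded. -/
theorem card_le_sectionBound (hX : IsPGroup p X) {a : X} (ha : a ^ p = 1) {Q : Subgroup X}
    [Q.Normal] {e c : ℕ} (he : ∀ x ∈ Q, x ^ p ^ e = 1) (hc : FixLE a Q c) (hc0 : 0 < c) :
    Nat.card Q ≤ sectionBound p c e := by
  obtain ⟨A, ⟨hAQ, hAn, hAc⟩, hmax⟩ := (Set.toFinite {A : Subgroup X |
    A ≤ Q ∧ A.Normal ∧ IsMulCommutative A}).exists_maximal
    ⟨⊥, bot_le, inferInstance, inferInstance⟩
  haveI := hAn
  set C := Q ⊓ centralizer (A : Set X) with hC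
  have hCA : C ≤ A := by
    by_contra hle
    let f := QuotientGroup.mk' A
    haveI : (C.map f).Normal := Subgroup.Normal.map inferInstance f (QuotientGroup.mk'_surjective A)
    have hne : C.map f ≠ ⊥ := by
      rw [Ne, Subgroup.map_eq_bot_iff, QuotientGroup.ker_mk']
      exact hle
    obtain ⟨Z, hZC, hZc, -, hZ⟩ := PGroups.exists_central_card_prime (hX.to_quotient A) _ hne
    have hZne : Z ≠ ⊥ := by
      rintro rfl
      rw [Subgroup.card_bot] at hZ
      exact hp.out.one_lt.ne hZ
    obtain ⟨z, hz, hz1⟩ := Z.bot_or_exists_ne_one.resolve_left hZne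
    obtain ⟨x, hxC, rfl⟩ := hZC hz
    have hcom : ∀ g : X, ⁅g, x⁆ ∈ A := fun g => by
      have h : f ⁅g, x⁆ = 1 := by
        rw [map_commutatorElement, commutatorElement_eq_one_iff_mul_comm]
        exact Subgroup.mem_center_iff.mp (hZc hz) (f g)
      exact (QuotientGroup.eq_one_iff _).mp h
    have hle2 : A ⊔ zpowers x ≤ A := hmax
      ⟨sup_le hAQ (zpowers_le.mpr (mem_inf.mp hxC).1), PGroups.normal_sup_zpowers hcom,
        PGroups.isMulCommutative_sup_zpowers hAc (mem_inf.mp hxC).2⟩ le_sup_left
    exact hz1 ((QuotientGroup.eq_one_iff x).mpr (hle2 (mem_sup_right (mem_zpowers x))))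
  have hA := card_abelian_le ha hAc (fun x hx => he x (hAQ hx)) (fixLE_mono hc hAQ)
  have hQ : Nat.card Q ≤ Nat.card (A → A) * Nat.card A := by
    refine card_le_of_fibers Q A (fun q x => MulAut.conjNormal (q : X) x) ?_
    intro u v huv
    refine hCA (mem_inf.mpr ⟨mul_mem (inv_mem v.2) u.2, mem_centralizer_iff.mpr fun x hx => ?_⟩)
    have h := congrArg Subtype.val (congrFun huv ⟨x, hx⟩)
    simp only [MulAut.conjNormal_apply] at h
    calc x * ((v : X)⁻¹ * u) = (v : X)⁻¹ * ((v : X) * x * (v : X)⁻¹) * u := by group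
      _ = (v : X)⁻¹ * ((u : X) * x * (u : X)⁻¹) * u := by rw [h]
      _ = _ := by group
  rw [Nat.card_fun] at hQ
  refine hQ.trans ?_
  rw [sectionBound, mul_comm]
  refine Nat.mul_le_mul hA ((Nat.pow_le_pow_left hA _).trans (Nat.pow_le_pow_right ?_ hA))
  positivity

/-- The derived length bound for `p`-groups. -/
def pLength (p n : ℕ) : ℕ :=
  let h := Kreknin.xi p (2 ^ (p - 1) - 1)
  let m := sectionBound p (p ^ n) ((n + 2) * (h + 1) + 1)
  m.factorial ^ (m.factorial ^ ((p ^ n) ^ p)) + (h + 1)

/-- Alperin's theorem for `p`-groups. -/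
theorem pGroup_derived_eq_bot (hX : IsPGroup p X) {a : X} (ha : a ^ p = 1) (P : Subgroup X)
    [hPn : P.Normal] {n : ℕ} (hfix : FixLE a P (p ^ n)) : derivedSeries P (pLength p n) = ⊥ := by
  classical
  set h := Kreknin.xi p (2 ^ (p - 1) - 1) with hh
  set E := (n + 2) * (h + 1) with hE
  set m := sectionBound p (p ^ n) (E + 1) with hm
  have hP : IsPGroup p P := hX.to_subgroup P
  -- generators modulo the Frattini subgroup
  set Φ := (frattini P).map P.subtype with hΦ
  haveI : Φ.Normal := Cores.normal_map_subtype P _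
  have hΦP : Φ ≤ P := map_subtype_le _
  let fΦ := QuotientGroup.mk' Φ
  haveI : (P.map fΦ).Normal := hPn.map fΦ (QuotientGroup.mk'_surjective Φ)
  have hV : Nat.card (P.map fΦ) ≤ (p ^ n) ^ p := by
    have hab : IsMulCommutative (P.map fΦ) := by
      refine ⟨⟨?_⟩⟩
      rintro ⟨_, x, hx, rfl⟩ ⟨_, y, hy, rfl⟩
      refine Subtype.ext (commutatorElement_eq_one_iff_mul_comm.mp ?_)
      rw [← map_commutatorElement]
      exact (QuotientGroup.eq_one_iff _).mpr
        ⟨⁅(⟨x, hx⟩ : P), ⟨y, hy⟩⁆, PGroups.commutatorElement_mem_frattini hP _ _, rfl⟩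
    have h1 := card_abelian_le (X := X ⧸ Φ) (a := fΦ a) (p := p) (e := 1) (c := p ^ n)
      (by rw [← map_pow, ha, map_one]) hab
      (fun x hx => by
        obtain ⟨y, hy, rfl⟩ := hx
        rw [pow_one, ← map_pow]
        exact (QuotientGroup.eq_one_iff _).mpr
          ⟨(⟨y, hy⟩ : P) ^ p, PGroups.pow_mem_frattini hP _, by simp⟩)
      (fixLE_quotient hΦP hfix)
    rwa [mul_one] at h1
  -- the kernel of all small permutation representations
  let K : Subgroup P := ⨅ f : P →* Equiv.Perm (Fin m), f.ker
  haveI : K.Characteristic := by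
    rw [Subgroup.characteristic_iff_le_comap]
    intro φ x hx
    rw [mem_comap]
    simp only [K, mem_iInf] at hx ⊢
    exact fun f => hx (f.comp φ.toMonoidHom)
  have hidx : Nat.card (P ⧸ K) ≤ m.factorial ^ (m.factorial ^ ((p ^ n) ^ p)) := by
    haveI : Finite (P →* Equiv.Perm (Fin m)) := DFunLike.finite _
    have h1 : Nat.card (⊤ : Subgroup P) ≤
        Nat.card ((P →* Equiv.Perm (Fin m)) → Equiv.Perm (Fin m)) * Nat.card K := by
      refine card_le_of_fibers ⊤ K (fun x f => f x) ?_
      intro u v huv
      simp only [K, mem_iInf, MonoidHom.mem_ker]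
      intro f
      rw [map_mul, map_inv, congrFun huv f, inv_mul_cancel]
    rw [card_top, ← K.index_mul_card] at h1
    refine (Nat.le_of_mul_le_mul_right h1 Nat.card_pos).trans ?_
    rw [Nat.card_fun, Nat.card_perm, Nat.card_fin]
    refine Nat.pow_le_pow_right (Nat.factorial_pos _) ?_
    -- homomorphisms are determined on representatives modulo `Φ`
    let out : P.map fΦ → P := fun v => ⟨Classical.choose v.2, (Classical.choose_spec v.2).1⟩
    have hgen : closure (Set.range out) = ⊤ := by
      apply frattini_nongenerating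
      rw [eq_top_iff]
      intro x _
      set v : P.map fΦ := ⟨fΦ x, mem_map_of_mem _ x.2⟩
      have hv : fΦ (out v : X) = fΦ x := (Classical.choose_spec v.2).2
      have hmem : (out v)⁻¹ * x ∈ frattini P := by
        obtain ⟨y, hy, he⟩ := (QuotientGroup.eq.mp hv : ((out v : X))⁻¹ * (x : X) ∈ Φ)
        have : y = (out v)⁻¹ * x := Subtype.ext he
        rwa [← this]
      have e : x = out v * ((out v)⁻¹ * x) := by group
      rw [e]
      exact mul_mem (mem_sup_left (subset_closure ⟨v, rfl⟩)) (mem_sup_right hmem)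
    refine (Nat.card_le_card_of_injective
      (fun (f : P →* Equiv.Perm (Fin m)) (v : P.map fΦ) => f (out v)) ?_).trans ?_
    · intro f g hfg
      refine MonoidHom.eq_of_eqOn_dense hgen ?_
      rintro _ ⟨v, rfl⟩
      exact congrFun hfg v
    · rw [Nat.card_fun, Nat.card_perm, Nat.card_fin]
      exact Nat.pow_le_pow_right (Nat.factorial_pos _) hV
  set Kx := K.map P.subtype with hKx
  haveI : Kx.Normal := Cores.normal_map_subtype P _
  have hKP : Kx ≤ P := map_subtype_le _
  have hnor : ∀ i, (Kx.lowerCentralSeries i).Normal := by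
    intro i
    induction i with
    | zero => simpa using (inferInstance : Kx.Normal)
    | succ i ih => haveI := ih; rw [Subgroup.lowerCentralSeries_succ]; infer_instance
  have hleP : ∀ i, Kx.lowerCentralSeries i ≤ P := fun i =>
    (Kx.lowerCentralSeries_antitone (Nat.zero_le i)).trans hKP
  have hgam : ∀ i, (Kreknin.gam Kx i).map Kx.subtype = Kx.lowerCentralSeries i :=
    Subgroup.top_subtype_lowerCentralSeries Kx
  -- the exponent of one factor
  have hfactor : ∀ x ∈ Kx.lowerCentralSeries h, x ^ p ^ E ∈ Kx.lowerCentralSeries (h + 1) := by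
    have hα : (MulAut.conjNormal a : MulAut Kx) ^ p = 1 := by rw [← map_pow, ha, map_one]
    have hfix' : ∀ i (y : Kx), y ∈ Kreknin.gam Kx i →
        y⁻¹ * MulAut.conjNormal a y ∈ Kreknin.gam Kx (i + 1) →
        y ^ p ^ n ∈ Kreknin.gam Kx (i + 1) := by
      intro i y _ hy
      set N := Kx.lowerCentralSeries (i + 1) with hN
      haveI : N.Normal := hnor _
      have hyN : (y : X)⁻¹ * (a * y * a⁻¹) ∈ N := by
        rw [hN, ← hgam]
        exact ⟨_, hy, rfl⟩
      set f := QuotientGroup.mk' N
      have hmem : f y ∈ P.map f ⊓ centralizer {f a} := by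
        refine mem_inf.mpr ⟨mem_map_of_mem f (hKP y.2), mem_centralizer_iff.mpr fun z hz => ?_⟩
        have h1 : f ((y : X)⁻¹ * (a * y * a⁻¹)) = 1 := (QuotientGroup.eq_one_iff _).mpr hyN
        rw [Set.mem_singleton_iff.mp hz]
        rw [map_mul, map_inv, inv_mul_eq_one, map_mul, map_mul, map_inv] at h1
        exact mul_inv_eq_iff_eq_mul.mp h1.symm
      set F : Subgroup (X ⧸ N) := P.map f ⊓ centralizer {f a}
      have hFle : Nat.card F ≤ p ^ n := fixLE_quotient (hleP _) hfix
      obtain ⟨k, hk⟩ := IsPGroup.iff_card.mp ((hX.to_quotient N).to_subgroup F)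
      rw [hk, Nat.pow_le_pow_iff_right hp.out.one_lt] at hFle
      have h2 : f (y : X) ^ p ^ n = 1 := by
        obtain ⟨t, rfl⟩ := Nat.exists_eq_add_of_le hFle
        have h0 := Subgroup.orderOf_dvd_natCard F hmem
        rw [hk] at h0
        rw [pow_add, pow_mul, orderOf_dvd_iff_pow_eq_one.mp h0, one_pow]
      rw [← map_pow] at h2
      have h3 : (y : X) ^ p ^ n ∈ N := (QuotientGroup.eq_one_iff _).mp h2
      rw [hN, ← hgam] at h3
      obtain ⟨z, hz, hzy⟩ := h3
      rwa [show z = y ^ p ^ n from Subtype.ext (by simpa using hzy)] at hz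
    intro x hx
    rw [← hgam] at hx ⊢
    obtain ⟨g, hg, rfl⟩ := hx
    exact ⟨_, Kreknin.pow_mem_gam_succ (MulAut.conjNormal a) hα n hfix' hg, by simp [hE, hh]⟩
  -- the small section is centralized by `K`
  set N := Kx.lowerCentralSeries h with hNdef
  haveI : N.Normal := hnor h
  set S : Set X := {z | ∃ x ∈ N, x ^ p ^ (E + 1) = z} with hS
  haveI hMn : (closure S).Normal := by
    refine ⟨fun x hx g => ?_⟩
    have hle : (closure S).map (MulAut.conj g).toMonoidHom ≤ closure S := by
      rw [MonoidHom.map_closure]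
      refine closure_mono ?_
      rintro _ ⟨_, ⟨y, hy, rfl⟩, rfl⟩
      exact ⟨g * y * g⁻¹, (hnor h).conj_mem y hy g, by simp [conj_pow]⟩
    exact hle ⟨x, hx, rfl⟩
  set M := closure S with hM
  have hMN : M ≤ N := (closure_le _).mpr (by rintro _ ⟨y, hy, rfl⟩; exact pow_mem hy _)
  have hcentral : ⁅N, Kx⁆ ≤ M := by
    set f := QuotientGroup.mk' M
    haveI : (N.map f).Normal := (hnor h).map f (QuotientGroup.mk'_surjective M)
    have hsmall : Nat.card (N.map f) ≤ m := by
      refine card_le_sectionBound (hX.to_quotient M) (a := f a) (by rw [← map_pow, ha, map_one]) ?_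
        (fixLE_mono (fixLE_quotient (hMN.trans (hleP h)) hfix) (Subgroup.map_mono (hleP h)))
        (pow_pos hp.out.pos n)
      rintro _ ⟨y, hy, rfl⟩
      rw [← map_pow]
      exact (QuotientGroup.eq_one_iff _).mpr (subset_closure ⟨y, hy, rfl⟩)
    haveI : Fintype (N.map f) := Fintype.ofFinite _
    obtain ⟨ι⟩ := Function.Embedding.nonempty_of_card_le (α := N.map f) (β := Fin m)
      (by rwa [Fintype.card_fin, ← Nat.card_eq_fintype_card])
    let π : MulAut (N.map f) →* Equiv.Perm (N.map f) :=
      { toFun := fun u => u.toEquiv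
        map_one' := rfl
        map_mul' := fun _ _ => rfl }
    let ρ : P →* Equiv.Perm (Fin m) := (Equiv.Perm.viaEmbeddingHom ι).comp
      (π.comp ((MulAut.conjNormal (H := N.map f)).comp (f.comp P.subtype)))
    rw [commutator_le]
    intro x hx k hk
    obtain ⟨k, hkK, rfl⟩ := hk
    have h1 : ρ k = 1 := (mem_iInf.mp hkK ρ : k ∈ ρ.ker)
    have h2 : π (MulAut.conjNormal (f (k : X))) = 1 :=
      Equiv.Perm.viaEmbeddingHom_injective ι (h1.trans (map_one _).symm)
    have h3 : f k * f x * (f k)⁻¹ = f x := by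
      have := congrArg (fun u : Equiv.Perm (N.map f) => ((u ⟨f x, mem_map_of_mem f hx⟩ : N.map f) : X ⧸ M)) h2
      simpa [π, MulAut.conjNormal_apply] using this
    rw [← QuotientGroup.eq_one_iff, ← QuotientGroup.mk'_apply, map_commutatorElement,
      commutatorElement_eq_one_iff_mul_comm]
    exact (mul_inv_eq_iff_eq_mul.mp h3).symm
  -- hence the series stops
  have hbot : Kx.lowerCentralSeries (h + 1) = ⊥ := by
    set D := Kx.lowerCentralSeries (h + 1) with hD
    have hDM : D ≤ M := by rw [hD, Subgroup.lowerCentralSeries_succ]; exact hcentral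
    have hMΦ : M ≤ (frattini D).map D.subtype := (closure_le _).mpr (by
      rintro _ ⟨y, hy, rfl⟩
      exact ⟨(⟨y ^ p ^ E, hfactor y hy⟩ : D) ^ p, PGroups.pow_mem_frattini (hX.to_subgroup D) _,
        by simp [pow_succ, pow_mul]⟩)
    by_contra hne
    haveI : Nontrivial D := (Subgroup.nontrivial_iff_ne_bot D).mpr hne
    have htop : frattini D = ⊤ := by
      rw [eq_top_iff]
      intro x _
      obtain ⟨y, hy, he⟩ := (hDM.trans hMΦ) x.2
      rwa [← show y = x from Subtype.ext he]
    exact bot_ne_top (frattini_nongenerating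
      (show (⊥ : Subgroup D) ⊔ frattini D = ⊤ by rw [htop, bot_sup_eq]))
  haveI : Group.IsSolvable P := by
    haveI := hP.isNilpotent
    infer_instance
  have hK : derivedSeries K (h + 1) = ⊥ := by
    have hle : ∀ i, ((derivedSeries K i).map K.subtype).map P.subtype ≤ Kx.lowerCentralSeries i := by
      intro i
      induction i with
      | zero => simp [hKx, ← MonoidHom.range_eq_map]
      | succ i ih =>
        rw [derivedSeries_succ, map_commutator, map_commutator, Subgroup.lowerCentralSeries_succ]
        exact commutator_mono ih (ih.trans (Kx.lowerCentralSeries_antitone (Nat.zero_le i)))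
    have := hle (h + 1)
    rw [hbot, le_bot_iff, Subgroup.map_eq_bot_iff_of_injective _ P.subtype_injective,
      Subgroup.map_eq_bot_iff_of_injective _ K.subtype_injective] at this
    exact this
  have hker : derivedSeries P (m.factorial ^ (m.factorial ^ ((p ^ n) ^ p))) ≤ K := by
    have h1 := derivedSeries_le_ker (QuotientGroup.mk' K) (derivedSeries_eq_bot_of_card_le hidx)
    rwa [QuotientGroup.ker_mk'] at h1
  exact derivedSeries_add_eq_bot K hker hK

end Cfsg.Agent.Lib.AlmostRegular
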