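import Cfsg.Agent.Lib.AlmostRegular.Basic
import Cfsg.Agent.S0033
import Cfsg.Agent.Lib.Balance.Permute
import Cfsg.Agent.Lib.Coprime.Commutator

/-!
# Alperin: the derived length of a solvable group with an almost regular automorphism of prime order

`solvable_derived_eq_bot`.
-/

set_option autoImplicit false
set_option linter.style.haveILetI false

namespace Cfsg.Agent.Lib.AlmostRegular

open Subgroup
open scoped commutatorElement

variable {p : ℕ} [hp : Fact p.Prime] {X : Type*} [Group X] [Finite X]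

/-- The derived length bound. -/
def solvLength (p n : ℕ) : ℕ :=
  Kreknin.xi p (2 ^ (p - 1) - 1) + (((p ^ n) ^ p) ^ ((p ^ n) ^ p) + pLength p n)

/-- The part prime to `p`. -/
theorem coprime_derived_eq_bot {a : X} (ha : a ^ p = 1) (O : Subgroup X) [O.Normal]
    (hfix : O ⊓ centralizer ({a} : Set X) = ⊥) :
    derivedSeries O (Kreknin.xi p (2 ^ (p - 1) - 1)) = ⊥ := by
  set φ : MulAut O := MulAut.conjNormal a with hφ
  have hφp : φ ^ p = 1 := by rw [hφ, ← map_pow, ha, map_one]
  have hfpf : ∀ g : O, φ g = g → g = 1 := by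
    intro g hg
    apply Subtype.ext
    have h : a * (g : X) * a⁻¹ = g := by
      rw [← MulAut.conjNormal_apply, ← hφ, hg]
    exact mem_bot.mp (hfix ▸ mem_inf.mpr ⟨g.2, mem_centralizer_iff.mpr fun z hz => by
      rw [Set.mem_singleton_iff.mp hz]; exact mul_inv_eq_iff_eq_mul.mp h⟩)
  haveI : Group.IsNilpotent O := by
    rcases (Nat.dvd_prime hp.out).mp (orderOf_dvd_of_pow_eq_one hφp) with h1 | h1
    · haveI : Subsingleton O := ⟨fun x y => by
        have hφ1 : φ = 1 := orderOf_eq_one_iff.mp h1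
        rw [hfpf x (by rw [hφ1]; rfl), hfpf y (by rw [hφ1]; rfl)]⟩
      infer_instance
    · exact Cfsg.Agent.S0033.result φ (fun g hg => hfpf g hg) p hp.out h1
  exact le_bot_iff.mp ((Subgroup.derived_le_lower_central _).trans
    (Kreknin.lcs_eq_bot φ hφp hfpf).1.le)

/-- The case `O_{p'}(G) = 1`. -/
theorem core_free_derived_eq_bot {a : X} (ha : a ^ p = 1) (G : Subgroup X) [hGn : G.Normal]
    (hG : Group.IsSolvable G) {n : ℕ} (hfix : FixLE a G (p ^ n))
    (hO : Cfsg.pPrimeCore p G = ⊥) :
    derivedSeries G (((p ^ n) ^ p) ^ ((p ^ n) ^ p) + pLength p n) = ⊥ := by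
  haveI := hG
  set P₀ := Cfsg.pCore p G with hP₀
  haveI : P₀.Characteristic := inferInstance
  have hPp : IsPGroup p P₀ := Cores.pCore_isPGroup p
  set P := P₀.map G.subtype with hP
  haveI : P.Normal := Cores.normal_map_subtype G _
  have hPG : P ≤ G := map_subtype_le _
  -- the `p`-part, inside a `p`-group
  set Y := zpowers a ⊔ P with hY
  have hYp : IsPGroup p Y := by
    refine IsPGroup.to_sup_of_normal_right ?_ (hPp.map _)
    obtain ⟨k, -, hk⟩ := (Nat.dvd_prime_pow hp.out).mp
      ((orderOf_dvd_of_pow_eq_one ha).trans (dvd_of_eq (pow_one p).symm))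
    exact IsPGroup.of_card (n := k) (by rw [Nat.card_zpowers, hk])
  have haY : a ∈ Y := mem_sup_left (mem_zpowers a)
  haveI : (P.subgroupOf Y).Normal := Subgroup.Normal.subgroupOf inferInstance _
  have hfixY : FixLE (⟨a, haY⟩ : Y) (P.subgroupOf Y) (p ^ n) := by
    refine le_trans (Nat.card_le_card_of_injective
      (fun y => (⟨((y : Y) : X), mem_inf.mpr ⟨hPG (mem_inf.mp y.2).1,
        mem_centralizer_iff.mpr fun z hz => by
          rw [Set.mem_singleton_iff.mp hz]
          exact congrArg Subtype.val (mem_centralizer_iff.mp (mem_inf.mp y.2).2 ⟨a, haY⟩ rfl)⟩⟩ :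
        (G ⊓ centralizer ({a} : Set X) : Subgroup X))) ?_) hfix
    intro u v huv
    exact Subtype.ext (Subtype.ext (congrArg Subtype.val huv :))
  have h1 := pGroup_derived_eq_bot hYp (a := (⟨a, haY⟩ : Y)) (Subtype.ext (by simpa using ha))
    (P.subgroupOf Y) hfixY
  have h2 : derivedSeries P₀ (pLength p n) = ⊥ := by
    have e : P₀ ≃* P.subgroupOf Y :=
      (P₀.equivMapOfInjective _ G.subtype_injective).trans
        (subgroupOfEquivOfLe (le_sup_right : P ≤ Y)).symm
    have := derivedSeries_le_ker e.toMonoidHom h1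
    rwa [MonoidHom.ker_eq_bot_iff (f := e.toMonoidHom) |>.mpr e.injective, le_bot_iff] at this
  -- `G / P₀` is small
  set Φ := (frattini P₀).map P₀.subtype with hΦ
  haveI hΦn : Φ.Normal := Cores.normal_map_subtype P₀ _
  set Φx := Φ.map G.subtype with hΦx
  haveI : Φx.Normal := by
    haveI : Φ.Characteristic := by
      rw [Subgroup.characteristic_iff_le_comap]
      rintro φ x ⟨y, hy, rfl⟩
      have hmap : P₀.map φ.toMonoidHom = P₀ :=
        (Subgroup.characteristic_iff_map_eq.mp inferInstance) φ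
      let ψ : P₀ ≃* P₀ := (P₀.equivMapOfInjective _ φ.injective).trans
        (MulEquiv.subgroupCongr hmap)
      exact ⟨ψ y, Subgroup.characteristic_iff_map_le.mp inferInstance ψ ⟨y, hy, rfl⟩, rfl⟩
    exact Cores.normal_map_subtype G _
  have hΦxP : Φx ≤ P := Subgroup.map_mono (map_subtype_le _)
  set f := QuotientGroup.mk' Φx
  have hV : Nat.card (P.map f) ≤ (p ^ n) ^ p := by
    have hab : IsMulCommutative (P.map f) := by
      refine ⟨⟨?_⟩⟩
      rintro ⟨_, _, ⟨x, hx, rfl⟩, rfl⟩ ⟨_, _, ⟨y, hy, rfl⟩, rfl⟩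
      refine Subtype.ext (commutatorElement_eq_one_iff_mul_comm.mp ?_)
      rw [← map_commutatorElement]
      exact (QuotientGroup.eq_one_iff _).mpr ⟨⁅(x : G), y⁆,
        ⟨⁅(⟨x, hx⟩ : P₀), ⟨y, hy⟩⁆, PGroups.commutatorElement_mem_frattini hPp _ _, rfl⟩, rfl⟩
    haveI : (P.map f).Normal := Subgroup.Normal.map inferInstance f (QuotientGroup.mk'_surjective _)
    have h1 := card_abelian_le (X := X ⧸ Φx) (a := f a) (p := p) (e := 1) (c := p ^ n)
      (by rw [← map_pow, ha, map_one]) hab
      (fun x hx => by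
        obtain ⟨_, ⟨y, hy, rfl⟩, rfl⟩ := hx
        rw [pow_one, ← map_pow]
        exact (QuotientGroup.eq_one_iff _).mpr
          ⟨y ^ p, ⟨(⟨y, hy⟩ : P₀) ^ p, PGroups.pow_mem_frattini hPp _, rfl⟩, rfl⟩)
      (fixLE_quotient hΦxP (fixLE_mono hfix hPG))
    rwa [mul_one] at h1
  haveI : (P.map f).Normal := Subgroup.Normal.map inferInstance f (QuotientGroup.mk'_surjective _)
  let π : MulAut (P.map f) →* Equiv.Perm (P.map f) :=
    { toFun := fun u => u.toEquiv
      map_one' := rfl
      map_mul' := fun _ _ => rfl }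
  let ρ : G →* Equiv.Perm (P.map f) :=
    π.comp ((MulAut.conjNormal (H := P.map f)).comp (f.comp G.subtype))
  have hC : centralizer (P₀ : Set G) ≤ P₀ := by
    have h := Cores.centralizer_fittingSubgroup_le (G := G)
    rwa [Balance.fitting_eq_pCore (p := p) hO] at h
  have hker : ρ.ker ≤ P₀ := by
    refine Cores.le_pCore ?_
    intro w
    obtain ⟨w, hw⟩ := w
    -- prime-power components
    have hall : ∀ u ∈ ρ.ker, (orderOf u).Coprime p → u = 1 := by
      intro u hu hcop
      have hcu : u ∈ centralizer (P₀ : Set G) := by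
        refine Lib.Coprime.le_centralizer_of_frattini (A := zpowers u) (K := P₀) ?_ ?_ ?_
          (mem_zpowers u)
        · exact fun x _ => le_normalizer_of_normal (mem_top x)
        · obtain ⟨k, hk⟩ := IsPGroup.iff_card.mp (hPp.to_subgroup (frattini P₀))
          rw [hk, Nat.card_zpowers]
          exact Nat.Coprime.pow_right k hcop
        · rintro _ ⟨i, rfl⟩ k hk
          have h3 : π (MulAut.conjNormal (f ((u ^ i : G) : X))) = 1 := zpow_mem hu i
          have h4 := congrArg (fun s : Equiv.Perm (P.map f) =>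
            ((s ⟨f (k : X), mem_map_of_mem f (mem_map_of_mem _ hk)⟩ : P.map f) : X ⧸ Φx)) h3
          have h5 : f ((u ^ i : G) : X) * f (k : X) * (f ((u ^ i : G) : X))⁻¹ = f (k : X) := by
            exact (MulAut.conjNormal_apply _ _).symm.trans h4
          have h6 : ((u ^ i * k * (u ^ i)⁻¹ * k⁻¹ : G) : X) ∈ Φx := by
            rw [← QuotientGroup.eq_one_iff, ← QuotientGroup.mk'_apply]
            simp only [Subgroup.coe_mul, Subgroup.coe_inv, map_mul, map_inv]
            exact mul_inv_eq_one.mpr h5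
          obtain ⟨z, hz, hze⟩ := h6
          rwa [← show z = u ^ i * k * (u ^ i)⁻¹ * k⁻¹ from Subtype.ext hze]
      obtain ⟨k, hk⟩ := IsPGroup.iff_orderOf.mp hPp ⟨u, hC hcu⟩
      rw [Subgroup.orderOf_mk] at hk
      rw [← orderOf_eq_one_iff, hk]
      rw [hk] at hcop
      rcases k.eq_zero_or_pos with rfl | h0
      · simp
      · exact absurd ((Nat.coprime_pow_left_iff h0 p p).mp hcop)
          (fun hpp => hp.out.ne_one (by simpa using hpp))
    obtain ⟨k, m, hm, hkm⟩ := Nat.exists_eq_pow_mul_and_not_dvd (orderOf_pos w).ne' p hp.out.ne_one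
    refine ⟨k, Subtype.ext ?_⟩
    show w ^ p ^ k = 1
    refine hall _ (pow_mem hw _) ?_
    rw [orderOf_pow' _ (pow_ne_zero _ hp.out.ne_zero), hkm, Nat.gcd_eq_right (dvd_mul_right _ _),
      Nat.mul_div_cancel_left _ (pow_pos hp.out.pos _)]
    exact ((hp.out.coprime_iff_not_dvd).mpr hm).symm
  have hcardG : Nat.card (G ⧸ ρ.ker) ≤ ((p ^ n) ^ p) ^ ((p ^ n) ^ p) := by
    rw [← Subgroup.index_eq_card, Subgroup.index_ker]
    refine (Nat.card_le_card_of_injective (fun s : ρ.range => ((s : Equiv.Perm (P.map f)) : P.map f → P.map f))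
      fun s t h => Subtype.ext (Equiv.coe_fn_injective h)).trans ?_
    rw [Nat.card_fun]
    refine (Nat.pow_le_pow_left hV _).trans (Nat.pow_le_pow_right ?_ hV)
    exact pow_pos (pow_pos hp.out.pos _) _
  have h3 := derivedSeries_le_ker (QuotientGroup.mk' ρ.ker) (derivedSeries_eq_bot_of_card_le hcardG)
  rw [QuotientGroup.ker_mk'] at h3
  exact derivedSeries_add_eq_bot P₀ (h3.trans hker) h2

/-- Alperin's theorem. -/
theorem solvable_derived_eq_bot {a : X} (ha : a ^ p = 1) (G : Subgroup X) [hGn : G.Normal]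
    (hG : Group.IsSolvable G) {n : ℕ}
    (hfix : Nat.card (G ⊓ centralizer ({a} : Set X) : Subgroup X) = p ^ n) :
    derivedSeries G (solvLength p n) = ⊥ := by
  haveI := hG
  set O₀ := Cfsg.pPrimeCore p G with hO₀
  set O := O₀.map G.subtype with hO
  haveI : O.Normal := Cores.normal_map_subtype G _
  have hOG : O ≤ G := map_subtype_le _
  have hOfix : O ⊓ centralizer ({a} : Set X) = ⊥ := by
    refine card_eq_one.mp (Nat.eq_one_of_dvd_coprimes (a := Nat.card O₀) (b := p ^ n) ?_ ?_ ?_)
    · exact Nat.Coprime.pow_right n (Cores.pPrimeCore_coprime p)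
    · rw [← Nat.card_congr (O₀.equivMapOfInjective _ G.subtype_injective).toEquiv.symm]
      exact card_dvd_of_le inf_le_left
    · rw [← hfix]
      exact card_dvd_of_le (inf_le_inf_right _ hOG)
  have h1 := coprime_derived_eq_bot ha O hOfix
  have h1' : derivedSeries O₀ (Kreknin.xi p (2 ^ (p - 1) - 1)) = ⊥ := by
    set e : O₀ ≃* O := O₀.equivMapOfInjective _ G.subtype_injective
    have := derivedSeries_le_ker e.toMonoidHom h1
    rwa [MonoidHom.ker_eq_bot_iff (f := e.toMonoidHom) |>.mpr e.injective, le_bot_iff] at this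
  set f := QuotientGroup.mk' O
  haveI : (G.map f).Normal := hGn.map f (QuotientGroup.mk'_surjective O)
  let g : G →* G.map f := f.subgroupMap G
  have hgs : Function.Surjective g := f.subgroupMap_surjective G
  have hgk : g.ker = O₀ := by
    ext x
    rw [MonoidHom.mem_ker, Subtype.ext_iff]
    show f (x : X) = 1 ↔ _
    rw [QuotientGroup.mk'_apply, QuotientGroup.eq_one_iff]
    constructor
    · rintro ⟨y, hy, he⟩
      rwa [← show y = x from Subtype.ext he]
    · exact fun hx => ⟨x, hx, rfl⟩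
  have hcore : Cfsg.pPrimeCore p (G.map f) = ⊥ := by
    have e : G ⧸ O₀ ≃* G.map f :=
      (QuotientGroup.quotientMulEquivOfEq hgk.symm).trans (QuotientGroup.quotientKerEquivOfSurjective g hgs)
    rw [← Cores.map_pPrimeCore_equiv e, Cores.pPrimeCore_quotient_pPrimeCore, Subgroup.map_bot]
  have h2 := core_free_derived_eq_bot (n := n) (a := f a) (p := p) (by rw [← map_pow, ha, map_one])
    (G.map f) (Group.isSolvable_of_surjective hgs) (fixLE_quotient hOG hfix.le) hcore
  have h3 := derivedSeries_le_ker g h2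
  rw [hgk] at h3
  have := derivedSeries_add_eq_bot O₀ h3 h1'
  rwa [add_comm] at this

end Cfsg.Agent.Lib.AlmostRegular
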